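import Groth.Agent.PSLib.Basic

/-! Power series into discrete algebras. -/

set_option autoImplicit false

universe u

namespace Groth.Agent.E4Basics

theorem isAdicComplete_of_isNilpotent {E : Type u} [CommRing E] {I : Ideal E} (h : IsNilpotent I) :
    IsAdicComplete I E := by
  obtain ⟨m, hm⟩ := h
  have hpow : ∀ N, m ≤ N → (I ^ N • ⊤ : Submodule E E) = ⊥ := fun N hN => by
    rw [smul_eq_mul, Ideal.mul_top]
    exact eq_bot_iff.2 ((Ideal.pow_le_pow_right hN).trans_eq hm)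
  refine { haus' := fun x hx => ?_, prec' := fun f hf => ⟨f m, fun N => ?_⟩ }
  · have h1 := hx m
    rwa [SModEq.zero, hpow m le_rfl, Submodule.mem_bot] at h1
  · rcases le_total N m with hN | hN
    · exact hf hN
    · have h1 := hf hN
      rw [hpow m le_rfl, SModEq.sub_mem, Submodule.mem_bot, sub_eq_zero] at h1
      rw [h1]

theorem isNilpotent_span_range {E : Type u} [CommRing E] {n : ℕ} (z : Fin n → E)
    (h : ∀ i, IsNilpotent (z i)) : IsNilpotent (Ideal.span (Set.range z)) := by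
  have hle : Ideal.span (Set.range z) ≤ nilradical E := by
    rw [Ideal.span_le]
    rintro _ ⟨i, rfl⟩
    exact h i
  obtain ⟨m, hm⟩ := Ideal.exists_pow_le_of_le_radical_of_fg (I := Ideal.span (Set.range z)) (J := ⊥) hle
    (Submodule.fg_span (Set.finite_range z))
  exact ⟨m, le_bot_iff.1 hm⟩

variable {A : Type u} [CommRing A] {n : ℕ}

open MvPowerSeries in
theorem ker_constantCoeff_eq : RingHom.ker (constantCoeff : MvPowerSeries (Fin n) A →+* A) = PSLib.vars n A := by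
  ext f
  rw [RingHom.mem_ker, PSLib.mem_vars_iff]

variable (𝔞 : Ideal A)

noncomputable abbrev prodIdeal (n : ℕ) : Ideal (MvPowerSeries (Fin n) A) :=
  𝔞.map (MvPowerSeries.C : A →+* MvPowerSeries (Fin n) A) ⊔
    RingHom.ker (MvPowerSeries.constantCoeff : MvPowerSeries (Fin n) A →+* A)

variable {E : Type u} [CommRing E] [Algebra A E]

theorem isNilpotent_apply_X (f : MvPowerSeries (Fin n) A →ₐ[A] E)
    (h : ∃ m : ℕ, ∀ x ∈ prodIdeal 𝔞 n ^ m, f x = 0) (i : Fin n) : IsNilpotent (f (MvPowerSeries.X i)) := by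
  obtain ⟨m, hm⟩ := h
  refine ⟨m, ?_⟩
  rw [← map_pow]
  exact hm _ (Ideal.pow_mem_pow (Ideal.mem_sup_right (by simp [RingHom.mem_ker])) m)

theorem existsUnique_continuous (hE : ∃ k : ℕ, (𝔞 ^ k).map (algebraMap A E) = ⊥)
    (z : Fin n → E) (hz : ∀ i, IsNilpotent (z i)) :
    ∃! g : MvPowerSeries (Fin n) A →ₐ[A] E, (∃ m : ℕ, ∀ x ∈ prodIdeal 𝔞 n ^ m, g x = 0) ∧
      ∀ i, g (MvPowerSeries.X i) = z i := by
  let I := Ideal.span (Set.range z)
  have hI := isNilpotent_span_range z hz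
  have := isAdicComplete_of_isNilpotent hI
  obtain ⟨g, hg⟩ := PSLib.exists_algHom (R := A) I z fun i => Ideal.subset_span ⟨i, rfl⟩
  obtain ⟨k, hk⟩ := hE
  obtain ⟨l, hl⟩ := hI
  refine ⟨g, ⟨⟨k + l, fun x hx => ?_⟩, hg⟩, fun g' ⟨_, hg'⟩ => ?_⟩
  · have hmap : (prodIdeal 𝔞 n).map g.toRingHom ≤ 𝔞.map (algebraMap A E) ⊔ I := by
      rw [Ideal.map_sup, ker_constantCoeff_eq, Ideal.map_map]
      refine sup_le_sup (le_of_eq ?_) ?_
      · congr 1
        ext a
        exact g.commutes a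
      · rw [PSLib.vars, Ideal.map_span, Ideal.span_le]
        rintro _ ⟨_, ⟨i, rfl⟩, rfl⟩
        exact Ideal.subset_span ⟨i, (hg i).symm⟩
    have h1 : g x ∈ ((prodIdeal 𝔞 n).map g.toRingHom) ^ (k + l) := by
      rw [← Ideal.map_pow]; exact Ideal.mem_map_of_mem g.toRingHom hx
    have h2 := Ideal.pow_right_mono hmap (k + l) h1
    have h3 := Ideal.sup_pow_add_le_pow_sup_pow h2
    rw [← Ideal.map_pow, hk, hl] at h3
    simpa using h3
  · exact PSLib.algHom_ext (I := I) g' g (fun i => hg' i ▸ Ideal.subset_span ⟨i, rfl⟩)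
      fun i => (hg' i).trans (hg i).symm

theorem isFormallySmoothAdic_aux (C : Type u) [CommRing C] [Algebra A C] (J : Ideal C) (hJ : IsNilpotent J)
    (hC : ∃ k : ℕ, (𝔞 ^ k).map (algebraMap A C) = ⊥) (u : MvPowerSeries (Fin n) A →ₐ[A] C ⧸ J)
    (hu : ∃ k : ℕ, ∀ x ∈ prodIdeal 𝔞 n ^ k, u x = 0) :
    ∃ v : MvPowerSeries (Fin n) A →ₐ[A] C, (Ideal.Quotient.mkₐ A J).comp v = u := by
  choose z hz using fun i => Ideal.Quotient.mk_surjective (u (MvPowerSeries.X i))
  have hz' : ∀ i, IsNilpotent (z i) := fun i => by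
    obtain ⟨m, hm⟩ := isNilpotent_apply_X 𝔞 u hu i
    obtain ⟨l, hl⟩ := hJ
    have h1 : z i ^ m ∈ J := Ideal.Quotient.eq_zero_iff_mem.1 (by rw [map_pow, hz, hm])
    exact ⟨m * l, by rw [pow_mul]; have h2 := Ideal.pow_mem_pow h1 l; rw [hl] at h2; exact (Submodule.mem_bot C).1 h2⟩
  obtain ⟨v, ⟨-, hv⟩, -⟩ := existsUnique_continuous 𝔞 hC z hz'
  refine ⟨v, ?_⟩
  have hn : IsNilpotent (Ideal.span (Set.range fun i => u (MvPowerSeries.X i))) :=
    isNilpotent_span_range _ (isNilpotent_apply_X 𝔞 u hu)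
  have := isAdicComplete_of_isNilpotent hn
  exact (PSLib.algHom_ext (I := Ideal.span (Set.range fun i => u (MvPowerSeries.X i))) u _
    (fun i => Ideal.subset_span ⟨i, rfl⟩) fun i => by simp [hv, hz]).symm

end Groth.Agent.E4Basics
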