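import Groth.Agent.CplKaehler4.Domain
import Groth.Agent.RegLoc6.Normal
import Groth.Agent.RegLoc6.RegEtale
import Groth.Agent.RegLoc6.Basic
import Groth.Agent.RegFS6.Field
import Groth.Agent.S9408
import Groth.Agent.S4533
import Mathlib.RingTheory.Unramified.LocalStructure
import Mathlib.RingTheory.Etale.Kaehler
import Mathlib.RingTheory.IntegralClosure.GoingDown
import Mathlib.RingTheory.KrullDimension.NonZeroDivisors

/-! Etaleness of finite algebras over power series rings from differentials and dimension. -/

set_option autoImplicit false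

universe u

namespace Groth.Agent.E4Basics

open IsLocalRing TensorProduct

variable (k : Type u) [Field k] (n : ℕ)

theorem isGeometricallyRegular_mvPowerSeries :
    CAlg.IsGeometricallyRegular k (MvPowerSeries (Fin n) k) := by
  haveI := PSLib.isRegularLocalRing (K := k) (n := n)
  refine RegFS6.geometricallyRegular_of_fs fun C _ _ J hJ ψ hψ => ?_
  refine Groth.Agent.S4533.result k (⊥ : Ideal k) n C J ⟨2, hJ⟩ ⟨1, by simp⟩ ψ ?_
  obtain ⟨e, he⟩ := hψ
  refine ⟨e, fun x hx => he x (Ideal.pow_right_mono (sup_le (by simp) ?_) e hx)⟩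
  intro y hy
  rw [PSLib.maximalIdeal_eq_vars]
  exact PSLib.mem_vars_iff.2 (RingHom.mem_ker.1 hy)

variable {k n} {A : Type u} [CommRing A] [Algebra k A] [Algebra (MvPowerSeries (Fin n) k) A]
  [IsScalarTower k (MvPowerSeries (Fin n) k) A] [Module.Finite (MvPowerSeries (Fin n) k) A]

/-- An unramified point on an `n`-dimensional component is an etale point, with geometrically
regular local ring. -/
theorem etaleAt_and_geomRegular (p q : Ideal A) [p.IsPrime] [q.IsPrime] (hqp : q ≤ p)
    (hq : ringKrullDim (A ⧸ q) = n) [Algebra.IsUnramifiedAt (MvPowerSeries (Fin n) k) p] :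
    Algebra.IsEtaleAt (MvPowerSeries (Fin n) k) p ∧ CAlg.IsGeometricallyRegular k (Localization.AtPrime p) := by
  let P := MvPowerSeries (Fin n) k
  haveI : IsRegularLocalRing P := PSLib.isRegularLocalRing (K := k) (n := n)
  haveI : IsDomain P := NoZeroDivisors.to_isDomain _
  haveI : IsIntegrallyClosed P := RegLoc6.isIntegrallyClosed_of_isRegularLocalRing P
  haveI : Algebra.FiniteType P A := Module.Finite.finiteType A
  haveI : IsNoetherianRing A := Algebra.FiniteType.isNoetherianRing P A
  let p₀ := p.under P
  -- the height of `p` is at least that of `p₀`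
  have hhp : p₀.height ≤ p.height := by
    let C := A ⧸ q
    haveI : Module.Finite P C := Module.Finite.of_surjective (Ideal.Quotient.mkₐ P q).toLinearMap
      Ideal.Quotient.mk_surjective
    have hinj : Function.Injective (algebraMap P C) :=
      CohenLib.injective_of_finite (algebraMap P C) (RingHom.finite_algebraMap.2 inferInstance) hq
        (PSLib.ringKrullDim_eq k n).le
    haveI : FaithfulSMul P C := (faithfulSMul_iff_algebraMap_injective P C).2 hinj
    let pC := p.map (Ideal.Quotient.mk q)
    haveI : pC.IsPrime := Ideal.map_isPrime_of_surjective Ideal.Quotient.mk_surjective (by rwa [Ideal.mk_ker])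
    have hpC : pC.comap (Ideal.Quotient.mk q) = p := by
      rw [Ideal.comap_map_of_surjective _ Ideal.Quotient.mk_surjective, ← RingHom.ker_eq_comap_bot, Ideal.mk_ker,
        sup_eq_left.2 hqp]
    haveI : pC.LiesOver p₀ := ⟨by
      show p.comap (algebraMap P A) = pC.comap (algebraMap P C)
      rw [show algebraMap P C = (Ideal.Quotient.mk q).comp (algebraMap P A) from rfl, ← Ideal.comap_comap, hpC]⟩
    have h := Ideal.height_eq_height_add_of_liesOver_of_hasGoingDown p₀ pC
    have h2 : pC.height ≤ p.height := by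
      rw [(⟨pC, inferInstance⟩ : PrimeSpectrum C).height_eq_orderHeight,
        (⟨p, inferInstance⟩ : PrimeSpectrum A).height_eq_orderHeight]
      refine (Order.height_le_height_apply_of_strictMono (PrimeSpectrum.comap (Ideal.Quotient.mk q)) ?_ _).trans
        (le_of_eq (congrArg _ (PrimeSpectrum.ext hpC)))
      intro x y hxy
      refine lt_of_le_of_ne (Ideal.comap_mono hxy.le) fun h => hxy.ne (PrimeSpectrum.ext ?_)
      exact Ideal.comap_injective_of_surjective _ Ideal.Quotient.mk_surjective (congrArg PrimeSpectrum.asIdeal h)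
    exact le_trans (h ▸ le_self_add) h2
  -- present the local ring as a quotient of an etale local ring
  obtain ⟨f, hf, E, φ, hφ⟩ :=
    Algebra.IsUnramifiedAt.exists_hasStandardEtaleSurjectionOn (R := P) p
  haveI : IsNoetherianRing E.Ring := Algebra.FiniteType.isNoetherianRing P E.Ring
  let Ap := Localization.AtPrime p
  have hu : IsUnit (algebraMap A Ap f) := IsLocalization.map_units Ap (⟨f, hf⟩ : p.primeCompl)
  let ψ : Localization.Away f →ₐ[P] Ap :=
    IsLocalization.liftAlgHom (M := Submonoid.powers f) (f := IsScalarTower.toAlgHom P A Ap)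
      (fun y => by obtain ⟨m, hm⟩ := y.2; rw [← hm, map_pow]; exact hu.pow m)
  have hψ : ∀ a : A, ψ (algebraMap A (Localization.Away f) a) = algebraMap A Ap a :=
    fun a => IsLocalization.lift_eq _ a
  let χ : E.Ring →ₐ[P] Ap := ψ.comp φ
  have hχ : ∀ a : A, ∃ e, χ e = algebraMap A Ap a := fun a => by
    obtain ⟨e, he⟩ := hφ (algebraMap A (Localization.Away f) a)
    exact ⟨e, by show ψ (φ e) = _; rw [he, hψ]⟩
  let M : Ideal E.Ring := (IsLocalRing.maximalIdeal Ap).comap χ
  haveI : M.IsPrime := Ideal.comap_isPrime _ _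
  let L := Localization.AtPrime M
  let Λ : L →ₐ[P] Ap := IsLocalization.liftAlgHom (M := M.primeCompl) (f := χ) fun y =>
    not_not.1 fun h => y.2 h
  have hΛ : ∀ e : E.Ring, Λ (algebraMap E.Ring L e) = χ e := fun e => IsLocalization.lift_eq _ e
  have hsurj : Function.Surjective Λ := by
    intro z
    obtain ⟨a, s, rfl⟩ := IsLocalization.exists_mk'_eq p.primeCompl z
    obtain ⟨e, he⟩ := hχ a
    obtain ⟨t, ht⟩ := hχ s
    have hus : IsUnit (χ t) := by rw [ht]; exact IsLocalization.map_units Ap s
    refine ⟨IsLocalization.mk' L e (⟨t, fun h => h hus⟩ : M.primeCompl), ?_⟩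
    rw [IsLocalization.eq_mk'_iff_mul_eq, ← he, ← ht, ← hΛ, ← hΛ, ← map_mul, IsLocalization.mk'_spec]
  haveI : IsRegularLocalRing L :=
    RegLoc6.regular_of_etale (A := P) M (S0564.result P _)
  haveI : IsDomain L := RegLoc6.isDomain_of_isRegularLocalRing L
  -- dimensions
  have hM : M.under P = p₀ := by
    show Ideal.comap (algebraMap P E.Ring) ((maximalIdeal Ap).comap χ.toRingHom) = p.comap (algebraMap P A)
    rw [Ideal.comap_comap, show χ.toRingHom.comp (algebraMap P E.Ring) = (algebraMap A Ap).comp (algebraMap P A) from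
      RingHom.ext fun x => (χ.commutes x).trans (IsScalarTower.algebraMap_apply P A Ap x), ← Ideal.comap_comap]
    congr 1
    exact IsLocalization.AtPrime.under_maximalIdeal Ap p
  have hdim : ringKrullDim L ≤ ringKrullDim Ap := by
    rw [IsLocalization.AtPrime.ringKrullDim_eq_height M L, IsLocalization.AtPrime.ringKrullDim_eq_height p Ap]
    refine WithBot.coe_le_coe.2 (le_trans ?_ hhp)
    rw [(⟨M, inferInstance⟩ : PrimeSpectrum E.Ring).height_eq_orderHeight,
      (⟨p₀, inferInstance⟩ : PrimeSpectrum P).height_eq_orderHeight]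
    refine (Order.height_le_height_apply_of_strictMono (PrimeSpectrum.comap (algebraMap P E.Ring)) ?_ _).trans
      (le_of_eq (congrArg _ (PrimeSpectrum.ext hM)))
    intro x y hxy
    refine lt_of_le_of_ne (Ideal.comap_mono hxy.le) fun h => hxy.ne (PrimeSpectrum.ext ?_)
    exact Algebra.QuasiFinite.eq_of_le_of_under_eq (R := P) _ _ hxy.le (congrArg PrimeSpectrum.asIdeal h)
  have hinj : Function.Injective Λ := by
    refine (injective_iff_map_eq_zero _).2 fun x hx => ?_
    by_contra hne
    have h1 := ringKrullDim_quotient_succ_le_of_nonZeroDivisor (R := L) (r := x) (mem_nonZeroDivisors_of_ne_zero hne)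
    let g : L ⧸ Ideal.span {x} →+* Ap := Ideal.Quotient.lift _ Λ.toRingHom fun y hy => by
      obtain ⟨c, rfl⟩ := Ideal.mem_span_singleton'.1 hy
      show Λ (c * x) = 0
      rw [map_mul, hx, mul_zero]
    have hg : Function.Surjective g := fun z => by
      obtain ⟨y, rfl⟩ := hsurj z
      exact ⟨Ideal.Quotient.mk _ y, rfl⟩
    have h2 := hdim.trans (ringKrullDim_le_of_surjective g hg)
    obtain ⟨d, hd⟩ : ∃ d : ℕ, ringKrullDim L = d := ⟨_, ((isRegularLocalRing_iff L).1 inferInstance).symm⟩
    rw [hd] at h1 h2
    have h3 := (add_le_add h2 (le_refl (1 : WithBot ℕ∞))).trans h1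
    exact absurd (by exact_mod_cast h3 : d + 1 ≤ d) (by omega)
  haveI : Algebra.FormallyEtale E.Ring L := Algebra.FormallyEtale.of_isLocalization M.primeCompl
  haveI : Algebra.FormallyEtale P L := Algebra.FormallyEtale.comp P E.Ring L
  let e := AlgEquiv.ofBijective Λ ⟨hinj, hsurj⟩
  refine ⟨Algebra.FormallyEtale.of_equiv e, ?_⟩
  letI : Algebra k E.Ring := ((algebraMap P E.Ring).comp (algebraMap k P)).toAlgebra
  haveI : IsScalarTower k P E.Ring := .of_algebraMap_eq' rfl
  have hE : CAlg.IsGeometricallyRegular k E.Ring :=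
    Groth.Agent.S9408.result k P E.Ring (isGeometricallyRegular_mvPowerSeries k n)
  haveI : IsScalarTower k E.Ring L := inferInstance
  have hL : CAlg.IsGeometricallyRegular k L :=
    SmoothingLib.GeomDiff.isGeometricallyRegular_of_isLocalization hE M.primeCompl L
  let ek : L ≃ₐ[k] Ap := AlgEquiv.ofRingEquiv (f := e.toRingEquiv) fun c => by
    show Λ (algebraMap k L c) = algebraMap k Ap c
    rw [IsScalarTower.algebraMap_apply k E.Ring L, IsScalarTower.algebraMap_apply k P E.Ring, hΛ, AlgHom.commutes,
      ← IsScalarTower.algebraMap_apply]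
  intro K _ _ hK
  have := hL K hK
  exact IsRegularRing.of_ringEquiv (Algebra.TensorProduct.congr (AlgEquiv.refl (R := k) (A₁ := K)) ek).toRingEquiv

end Groth.Agent.E4Basics
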