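import Groth.Agent.E4Basics.CplEtale
import Groth.Agent.E4Basics.SemiDim

/-! Completed differentials: freeness at etale points, and the choice of parameters. -/

set_option autoImplicit false

universe u

namespace Groth.Agent.E4Basics

open IsLocalRing TensorProduct CplKaehler4

variable (k : Type u) [Field k] (A : Type u) [CommRing A] [IsLocalRing A] [IsNoetherianRing A] [Algebra k A]
  [IsAdicComplete (maximalIdeal A) A] [Module.Finite k (ResidueField A)]

local notation "Om" => AdicCompletion (maximalIdeal A) (Ω[A⁄k])

/-- The derivations of the power series ring extend to an etale point. -/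
theorem exists_dual_derivation {n : ℕ} [Algebra (MvPowerSeries (Fin n) k) A] [IsScalarTower k (MvPowerSeries (Fin n) k) A]
    (p : Ideal A) [p.IsPrime] [Algebra.IsEtaleAt (MvPowerSeries (Fin n) k) p] (j : Fin n) :
    ∃ D : Derivation k A (Localization.AtPrime p), ∀ f : MvPowerSeries (Fin n) k,
      D (algebraMap _ A f) = algebraMap _ (Localization.AtPrime p) (MvPowerSeries.pderiv k j f) := by
  let P := MvPowerSeries (Fin n) k
  let Ap := Localization.AtPrime p
  haveI : Algebra.FormallyEtale P Ap := ‹Algebra.IsEtaleAt (MvPowerSeries (Fin n) k) p›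
  let d : Derivation k P Ap := (Algebra.linearMap P Ap).compDer (MvPowerSeries.pderiv k j)
  let l : Ω[Ap⁄k] →ₗ[Ap] Ap := (d.liftKaehlerDifferential.liftBaseChange Ap).comp
    (KaehlerDifferential.tensorKaehlerEquivOfFormallyEtale k P Ap).symm.toLinearMap
  let D : Derivation k A Ap :=
    ((l.restrictScalars A).compDer ((KaehlerDifferential.D k Ap).compAlgebraMap A))
  refine ⟨D, fun f => ?_⟩
  show l (KaehlerDifferential.D k Ap (algebraMap A Ap (algebraMap P A f))) = _
  rw [← IsScalarTower.algebraMap_apply]
  have : (KaehlerDifferential.tensorKaehlerEquivOfFormallyEtale k P Ap) ((1 : Ap) ⊗ₜ KaehlerDifferential.D k P f) =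
      KaehlerDifferential.D k Ap (algebraMap P Ap f) := by
    simp [KaehlerDifferential.mapBaseChange_tmul]
  rw [← this]
  show (d.liftKaehlerDifferential.liftBaseChange Ap) ((KaehlerDifferential.tensorKaehlerEquivOfFormallyEtale k P Ap).symm _) = _
  rw [LinearEquiv.symm_apply_apply, LinearMap.liftBaseChange_tmul, one_smul, Derivation.liftKaehlerDifferential_comp_D]
  rfl

/-- At an etale point of a finite map from power series the completed differentials are free. -/
theorem free_of_etaleAt {n : ℕ} [Algebra (MvPowerSeries (Fin n) k) A] [IsScalarTower k (MvPowerSeries (Fin n) k) A]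
    [Module.Finite (MvPowerSeries (Fin n) k) A]
    (p : Ideal A) [p.IsPrime] [Algebra.IsEtaleAt (MvPowerSeries (Fin n) k) p] :
    Module.Free (Localization.AtPrime p) (LocalizedModule p.primeCompl Om) ∧
      Module.finrank (Localization.AtPrime p) (LocalizedModule p.primeCompl Om) = n := by
  classical
  let P := MvPowerSeries (Fin n) k
  let Ap := Localization.AtPrime p
  haveI : Algebra.IsUnramifiedAt P p := (inferInstance : Algebra.FormallyUnramified P Ap)
  have hgen := (genAt_iff_unramifiedAt (k := k) (A := A) (r := n) p).2 inferInstance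
  rw [genAt_iff_localized] at hgen
  let b : Fin n → LocalizedModule p.primeCompl Om := fun i => LocalizedModule.mkLinearMap p.primeCompl Om
    (AdicCompletion.of (maximalIdeal A) (Ω[A⁄k]) (KaehlerDifferential.D k A (algebraMap P A (MvPowerSeries.X i))))
  obtain ⟨m, e, he⟩ := Submodule.fg_iff_exists_fin_generating_family.1 (Module.Finite.fg_top (R := P) (M := A))
  have hφ : ∀ j, ∃ φ : LocalizedModule p.primeCompl Om →ₗ[Ap] Ap, ∀ i, φ (b i) = if i = j then 1 else 0 := by
    intro j
    obtain ⟨D, hD⟩ := exists_dual_derivation k A p (n := n) j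
    let N : Submodule A Ap := Submodule.span A (Set.range fun o : Option (Fin m) => o.elim 1 fun i => D (e i))
    have hDN : ∀ a, D a ∈ N := by
      intro a
      obtain ⟨c, rfl⟩ := (Submodule.mem_span_range_iff_exists_fun P).1 (he ▸ (Submodule.mem_top : a ∈ (⊤ : Submodule P A)))
      rw [map_sum]
      refine sum_mem fun i _ => ?_
      rw [Algebra.smul_def, Derivation.leibniz]
      refine add_mem (N.smul_mem _ (Submodule.subset_span ⟨some i, rfl⟩)) (N.smul_mem _ ?_)
      rw [hD, IsScalarTower.algebraMap_apply P A Ap, Algebra.algebraMap_eq_smul_one]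
      exact N.smul_mem _ (Submodule.subset_span ⟨none, rfl⟩)
    haveI : Module.Finite A N := Module.Finite.iff_fg.2 (Submodule.fg_span (Set.finite_range _))
    let D' : Derivation k A N := Derivation.mk'
      { toFun := fun a => ⟨D a, hDN a⟩
        map_add' := fun a b => Subtype.ext (map_add D a b)
        map_smul' := fun c a => Subtype.ext (D.map_smul c a) }
      fun a b => Subtype.ext (D.leibniz a b)
    obtain ⟨φ₀, hφ₀⟩ := exists_lift k A D'
    have hu : ∀ x : p.primeCompl, IsUnit (algebraMap A (Module.End A Ap) x) :=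
      IsLocalizedModule.map_units (Algebra.linearMap A Ap)
    let φ₁ : LocalizedModule p.primeCompl Om →ₗ[A] Ap :=
      IsLocalizedModule.lift p.primeCompl (LocalizedModule.mkLinearMap p.primeCompl Om) (N.subtype.comp φ₀) hu
    refine ⟨LinearMap.extendScalarsOfIsLocalization p.primeCompl Ap φ₁, fun i => ?_⟩
    show φ₁ (b i) = _
    simp only [φ₁, b]
    rw [IsLocalizedModule.lift_apply]
    show ((φ₀ _ : N) : Ap) = _
    rw [hφ₀]
    show D (algebraMap P A (MvPowerSeries.X i)) = _
    rw [hD, MvPowerSeries.pderiv_X]
    rcases eq_or_ne i j with rfl | hij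
    · simp
    · rw [if_neg hij]; simp [Pi.single_apply, hij, Ne.symm hij]
  choose φ hφ using hφ
  have hli : LinearIndependent Ap b := by
    rw [Fintype.linearIndependent_iff]
    intro c hc j
    have := congrArg (φ j) hc
    simp only [map_sum, map_smul, hφ, map_zero, smul_eq_mul, mul_ite, mul_one, mul_zero,
      Finset.sum_ite_eq', Finset.mem_univ, if_true] at this
    exact this
  let B := Module.Basis.mk hli (ge_of_eq hgen)
  exact ⟨Module.Free.of_basis B, by rw [Module.finrank_eq_card_basis B, Fintype.card_fin]⟩

/-- Parameters adapted to generators of the completed differentials at a prime. -/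
theorem exists_finite_unramified (p : Ideal A) [p.IsPrime] (hp : p ≠ maximalIdeal A) (m : ℕ)
    (hdimA : ringKrullDim A ≤ m)
    (hgen : ∃ s : Fin m → LocalizedModule p.primeCompl Om, Submodule.span (Localization.AtPrime p) (Set.range s) = ⊤) :
    ∃ (_ : Algebra (MvPowerSeries (Fin m) k) A) (_ : IsScalarTower k (MvPowerSeries (Fin m) k) A),
      IsLocalHom (algebraMap (MvPowerSeries (Fin m) k) A) ∧ Module.Finite (MvPowerSeries (Fin m) k) A ∧
        Algebra.IsUnramifiedAt (MvPowerSeries (Fin m) k) p := by
  classical
  haveI := finite_completion k A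
  let K := p.ResidueField
  let V := K ⊗[A] Om
  let δ : A → V := fun a => (1 : K) ⊗ₜ AdicCompletion.of (maximalIdeal A) (Ω[A⁄k]) (KaehlerDifferential.D k A a)
  have hδadd : ∀ a b, δ (a + b) = δ a + δ b := fun a b => by simp only [δ, map_add, TensorProduct.tmul_add]
  have hδmul : ∀ a b, δ (a * b) = algebraMap A K a • δ b + algebraMap A K b • δ a := fun a b => by
    simp only [δ, Derivation.leibniz, map_add, map_smul, TensorProduct.tmul_add, TensorProduct.tmul_smul,
      algebraMap_smul]
  obtain ⟨y, hym, hyp⟩ : ∃ y ∈ maximalIdeal A, y ∉ p := SetLike.not_le_iff_exists.1 fun h =>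
    hp ((maximalIdeal.isMaximal A).eq_of_le ‹p.IsPrime›.ne_top h).symm
  have hspan : Submodule.span K (δ '' (maximalIdeal A : Set A)) = ⊤ := by
    refine eq_top_iff.2 fun z hz0 => ?_
    clear hz0
    induction z using TensorProduct.induction_on with
    | zero => exact Submodule.zero_mem _
    | add x y hx hy => exact Submodule.add_mem _ hx hy
    | tmul r w =>
      rw [← mul_one r, ← smul_eq_mul, ← TensorProduct.smul_tmul']
      refine Submodule.smul_mem _ _ ?_
      have hw : w ∈ Submodule.span A (Set.range fun a : A =>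
          AdicCompletion.of (maximalIdeal A) (Ω[A⁄k]) (KaehlerDifferential.D k A a)) := span_d k A ▸ Submodule.mem_top
      induction hw using Submodule.span_induction with
      | zero => simp
      | add x y _ _ hx hy => rw [TensorProduct.tmul_add]; exact add_mem hx hy
      | smul c x _ hx => rw [TensorProduct.tmul_smul, ← algebraMap_smul K c]; exact Submodule.smul_mem _ _ hx
      | mem x hx =>
        obtain ⟨a, rfl⟩ := hx
        show δ a ∈ _
        have hy0 : algebraMap A K y ≠ 0 := by rwa [Ne, Ideal.algebraMap_residueField_eq_zero]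
        have h1 : δ (a * y) ∈ Submodule.span K (δ '' (maximalIdeal A : Set A)) :=
          Submodule.subset_span ⟨a * y, Ideal.mul_mem_left _ _ hym, rfl⟩
        rw [hδmul] at h1
        have hy1 : δ y ∈ Submodule.span K (δ '' (maximalIdeal A : Set A)) := Submodule.subset_span ⟨y, hym, rfl⟩
        have h2 := (Submodule.add_mem_iff_right _ (Submodule.smul_mem _ (algebraMap A K a) hy1)).1 h1
        exact (Submodule.smul_mem_iff _ hy0).1 h2
  have main : ∀ i ≤ m, ∃ xs : List A, xs.length = i ∧ (∀ x ∈ xs, x ∈ maximalIdeal A) ∧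
      ringKrullDim (A ⧸ Ideal.ofList xs) ≤ ((m - i : ℕ) : WithBot ℕ∞) ∧
      min i (Module.finrank K V) ≤ Module.finrank K (Submodule.span K (δ '' {x | x ∈ xs})) := by
    intro i
    induction i with
    | zero =>
      exact fun _ => ⟨[], rfl, by simp, (ringKrullDim_quotient_le _).trans hdimA, by simp⟩
    | succ i ih =>
      intro hi
      obtain ⟨xs, hlen, hxs, hdim, hrk⟩ := ih (by omega)
      let W := Submodule.span K (δ '' {x | x ∈ xs})
      let J := Ideal.ofList xs
      have hJm : J ≤ maximalIdeal A := Ideal.span_le.2 hxs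
      have hfin := Ideal.finite_minimalPrimes_of_isNoetherianRing A J
      let S := hfin.toFinset.filter fun q => q ≠ maximalIdeal A
      have hav : ∀ {I : Ideal A} {S' : Finset (Ideal A)}, S' ⊆ S → (∀ q ∈ S', ¬ I ≤ q) → ∃ a ∈ I, ∀ q ∈ S', a ∉ q := by
        intro I S' hS' hI
        by_contra hcon
        push Not at hcon
        have hsub : (I : Set A) ⊆ ⋃ q ∈ (S' : Set (Ideal A)), (q : Set A) := fun a ha => by
          obtain ⟨q, hq, haq⟩ := hcon a ha
          exact Set.mem_iUnion₂.mpr ⟨q, hq, haq⟩
        obtain ⟨q, hq, hle⟩ := (Ideal.subset_union_prime ⊤ ⊤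
          (fun q hq _ _ => (hfin.mem_toFinset.mp (Finset.mem_filter.mp (hS' hq)).1).1.1)).mp hsub
        exact hI q hq hle
      have hnle : ∀ q ∈ S, ¬ maximalIdeal A ≤ q := fun q hq h => (Finset.mem_filter.mp hq).2
        ((maximalIdeal.isMaximal A).eq_of_le (hfin.mem_toFinset.mp (Finset.mem_filter.mp hq).1).1.1.ne_top h).symm
      obtain ⟨x, hxm, hxS, hxW⟩ : ∃ x ∈ maximalIdeal A, (∀ q ∈ S, x ∉ q) ∧ (W ≠ ⊤ → δ x ∉ W) := by
        by_cases hW : W = ⊤
        · obtain ⟨x, hx, hxS⟩ := hav (subset_refl S) hnle
          exact ⟨x, hx, hxS, fun h => absurd hW h⟩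
        obtain ⟨z, hzm, hzW⟩ : ∃ z ∈ maximalIdeal A, δ z ∉ W := by
          by_contra hcon
          push Not at hcon
          exact hW (top_le_iff.1 (hspan.ge.trans (Submodule.span_le.2 (by rintro _ ⟨a, ha, rfl⟩; exact hcon a ha))))
        let S₀ := S.filter fun q => z ∈ q
        obtain ⟨u, hum, huS₀, huS⟩ : ∃ u ∈ maximalIdeal A, (∀ q ∈ S, z ∈ q → u ∉ q) ∧ ∀ q ∈ S, z ∉ q → u ∈ q := by
          obtain ⟨u, hu, hu'⟩ := hav (I := maximalIdeal A ⊓ (S.filter fun q => z ∉ q).inf id) (S' := S₀)
            (Finset.filter_subset _ _) fun q hq hle => by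
              have hq' := (Finset.mem_filter.mp hq)
              have hqp : q.IsPrime := (hfin.mem_toFinset.mp (Finset.mem_filter.mp hq'.1).1).1.1
              rcases hqp.inf_le.1 hle with h | h
              · exact hnle q hq'.1 h
              · obtain ⟨q', hq'', hle'⟩ := hqp.inf_le'.1 h
                have hq''' := Finset.mem_filter.mp hq''
                have hmem := hfin.mem_toFinset.mp (Finset.mem_filter.mp hq'.1).1
                have hmem' := hfin.mem_toFinset.mp (Finset.mem_filter.mp hq'''.1).1
                exact hq'''.2 ((le_antisymm hle' (hmem.2 hmem'.1 hle') : q' = q) ▸ hq'.2)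
          exact ⟨u, hu.1, fun q hq hz => hu' q (Finset.mem_filter.mpr ⟨hq, hz⟩), fun q hq hz =>
            Submodule.mem_finsetInf.mp hu.2 q (Finset.mem_filter.mpr ⟨hq, hz⟩)⟩
        have hS : ∀ e : ℕ, 1 ≤ e → ∀ q ∈ S, z + u ^ e ∉ q := by
          intro e he q hq hmem
          have hqp : q.IsPrime := (hfin.mem_toFinset.mp (Finset.mem_filter.mp hq).1).1.1
          by_cases hz : z ∈ q
          · exact huS₀ q hq hz (hqp.mem_of_pow_mem e ((add_mem_cancel_left hz).1 hmem))
          · exact hz ((add_mem_cancel_right (Ideal.pow_mem_of_mem q (huS q hq hz) e he)).1 hmem)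
        have hm' : ∀ e : ℕ, 1 ≤ e → z + u ^ e ∈ maximalIdeal A :=
          fun e he => add_mem hzm (Ideal.pow_mem_of_mem _ hum e he)
        by_contra hcon
        push Not at hcon
        have hQ : ∀ e : ℕ, 1 ≤ e → W.mkQ (δ (u ^ e)) = - W.mkQ (δ z) := fun e he => by
          have h1 := (hcon _ (hm' e he) (hS e he)).2
          rw [← add_eq_zero_iff_eq_neg', ← map_add, ← hδadd]
          exact (Submodule.Quotient.mk_eq_zero W).2 h1
        let w := W.mkQ (δ u)
        let c := algebraMap A K u
        have h1 : w = - W.mkQ (δ z) := by have := hQ 1 le_rfl; rwa [pow_one] at this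
        have h2 : (c + c) • w = w := by
          have h := hQ 2 (by omega)
          rw [pow_two, hδmul, map_add, map_smul, ← h1] at h
          rwa [add_smul]
        have h3 : (c * (c + c) + c * c) • w = w := by
          have h := hQ 3 (by omega)
          rw [pow_succ, pow_two, hδmul, hδmul, map_add, map_smul, map_smul, map_add, map_smul, ← h1,
            ← add_smul, smul_smul, ← add_smul, map_mul] at h
          rw [show c * (c + c) + c * c = c * c + c * (c + c) from add_comm _ _]
          exact h
        have hw : w ≠ 0 := fun h => hzW ((Submodule.Quotient.mk_eq_zero W).1 (neg_eq_zero.1 (h1.symm.trans h)))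
        have e2 : c + c = 1 := by
          have := sub_eq_zero.2 h2
          rw [show (c + c) • w - w = (c + c - 1) • w by rw [sub_smul, one_smul]] at this
          exact sub_eq_zero.1 ((smul_eq_zero.1 this).resolve_right hw)
        have e3 : c * (c + c) + c * c = 1 := by
          have := sub_eq_zero.2 h3
          rw [show (c * (c + c) + c * c) • w - w = (c * (c + c) + c * c - 1) • w by rw [sub_smul, one_smul]] at this
          exact sub_eq_zero.1 ((smul_eq_zero.1 this).resolve_right hw)
        have : (1 : K) = 0 := by linear_combination (6 * c + 3) * e2 - 4 * e3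
        exact one_ne_zero this
      refine ⟨x :: xs, by simp [hlen], List.forall_mem_cons.2 ⟨hxm, hxs⟩, ?_, ?_⟩
      · have hsupp : ∀ P : PrimeSpectrum A, P ∈ Module.support A (A ⧸ J) ↔ J ≤ P.asIdeal := fun P => by
          rw [Module.mem_support_iff_of_finite, Ideal.annihilator_quotient]
        haveI : Nontrivial (A ⧸ J) := Ideal.Quotient.nontrivial_iff.2 fun h =>
          (maximalIdeal.isMaximal A).ne_top (top_le_iff.1 (h ▸ hJm))
        haveI : Finite (MaximalSpectrum A) := by
          refine Finite.of_injective (fun _ => ()) fun a b _ => MaximalSpectrum.ext ?_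
          rw [IsLocalRing.eq_maximalIdeal a.isMaximal, IsLocalRing.eq_maximalIdeal b.isMaximal]
        have hxj : x ∈ Ring.jacobson A := by rwa [IsLocalRing.ringJacobson_eq_maximalIdeal]
        obtain ⟨d, hd⟩ := exists_supportDim_eq_nat (A := A) (A ⧸ J)
        have hd' := hd
        rw [Module.supportDim_quotient_eq_ringKrullDim] at hd'
        have hle : ringKrullDim (A ⧸ Ideal.ofList (x :: xs)) ≤ ringKrullDim (A ⧸ J) :=
          ringKrullDim_le_of_surjective (Ideal.Quotient.factor (by rw [Ideal.ofList_cons]; exact le_sup_right))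
            (Ideal.Quotient.factor_surjective _)
        rcases Nat.eq_zero_or_pos d with hd0 | hd0
        · refine hle.trans ?_
          rw [hd', hd0]
          exact_mod_cast Nat.zero_le _
        have hdi : d ≤ m - i := by
          have := hd'.symm.le.trans hdim
          exact_mod_cast this
        have hone : Module.supportDim A (QuotSMulTop x (A ⧸ J)) + 1 = Module.supportDim A (A ⧸ J) := by
          refine (supportDim_quot_add_one_eq_iff _ hxj).2 fun P hP hPd hxP => ?_
          obtain ⟨q, hq, hqP⟩ := Ideal.exists_minimalPrimes_le ((hsupp P).1 hP)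
          let q' : PrimeSpectrum A := ⟨q, hq.1.1⟩
          have hqe : q = P.asIdeal := by
            rcases hqP.eq_or_lt with heq | hlt
            · exact heq
            exfalso
            have h1 := LC.coheight_le_supportDim ((hsupp q').2 hq.1.2)
            rw [hd] at h1
            rw [← LC.coheight_eq_ringKrullDim_quotient, hd] at hPd
            have h2 : Order.coheight P = (d : ℕ∞) := WithBot.coe_eq_coe.1 hPd
            have h3 := (LC.coheight_add_one_le (show q' < P from hlt)).trans (WithBot.coe_le_coe.1 h1)
            rw [h2] at h3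
            exact absurd (by exact_mod_cast h3 : d + 1 ≤ d) (by omega)
          subst hqe
          refine hxS _ (Finset.mem_filter.2 ⟨hfin.mem_toFinset.2 hq, fun hm => ?_⟩) hxP
          haveI : P.asIdeal.IsMaximal := hm ▸ maximalIdeal.isMaximal A
          rw [(letI := Ideal.Quotient.field P.asIdeal; ringKrullDim_eq_zero_of_field (A ⧸ P.asIdeal)), hd] at hPd
          have : 0 = d := by exact_mod_cast hPd
          omega
        have heqv : (A ⧸ Ideal.ofList (x :: xs)) ≃ₗ[A] QuotSMulTop x (A ⧸ J) :=
          (Submodule.quotEquivOfEq _ _ (Ideal.mul_top _).symm).trans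
            ((Submodule.quotOfListConsSMulTopEquivQuotSMulTopOuter A x xs).trans
              (QuotSMulTop.congr x (Submodule.quotEquivOfEq _ _ (Ideal.mul_top _))))
        have heq' := Module.supportDim_eq_of_equiv heqv
        rw [Module.supportDim_quotient_eq_ringKrullDim] at heq'
        rw [← heq', hd] at hone
        haveI : Nontrivial (A ⧸ Ideal.ofList (x :: xs)) := Ideal.Quotient.nontrivial_iff.2 fun h =>
          (maximalIdeal.isMaximal A).ne_top (top_le_iff.1 (h ▸ Ideal.span_le.2 (List.forall_mem_cons.2 ⟨hxm, hxs⟩)))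
        obtain ⟨d₂, hd₂⟩ := exists_supportDim_eq_nat (A := A) (A ⧸ Ideal.ofList (x :: xs))
        rw [Module.supportDim_quotient_eq_ringKrullDim] at hd₂
        rw [hd₂] at hone ⊢
        have : d₂ + 1 = d := by exact_mod_cast hone
        exact_mod_cast (show d₂ ≤ m - (i + 1) by omega)
      · by_cases hW : W = ⊤
        · have : Submodule.span K (δ '' {a | a ∈ x :: xs}) = ⊤ := top_le_iff.1 (hW.ge.trans
            (Submodule.span_mono (Set.image_mono fun a ha => List.mem_cons_of_mem _ ha)))
          rw [this, finrank_top]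
          exact min_le_right _ _
        · have hlt : W < Submodule.span K (δ '' {a | a ∈ x :: xs}) :=
            lt_of_le_of_ne (Submodule.span_mono (Set.image_mono fun a ha => List.mem_cons_of_mem _ ha)) fun h =>
              hxW hW (h ▸ Submodule.subset_span ⟨x, List.mem_cons_self, rfl⟩)
          have := Submodule.finrank_lt_finrank_of_lt hlt
          have hW' : min i (Module.finrank K V) ≤ Module.finrank K W := hrk
          omega
  obtain ⟨xs, hlen, hxs, hdim, hrk⟩ := main m le_rfl
  obtain ⟨s, hs⟩ := exists_genAt_of_localized p hgen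
  have hd : Module.finrank K V ≤ m := finrank_fibre_le p hs
  rw [min_eq_right hd] at hrk
  have htop : Submodule.span K (δ '' {x | x ∈ xs}) = ⊤ :=
    Submodule.eq_top_of_finrank_eq (le_antisymm (Submodule.finrank_le _) hrk)
  subst hlen
  have hrad : maximalIdeal A ≤ (Ideal.span (Set.range xs.get)).radical := by
    rw [Set.range_list_get]
    show _ ≤ (Ideal.ofList xs).radical
    rw [Ideal.radical_eq_sInf]
    refine le_sInf fun q ⟨hq, hqp⟩ => ?_
    by_contra hcon
    rw [Nat.sub_self, ringKrullDim_quotient] at hdim
    have hmax := Order.krullDim_nonpos_iff_forall_isMax.1 (by simpa using hdim)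
      (⟨⟨q, hqp⟩, hq⟩ : PrimeSpectrum.zeroLocus ((Ideal.ofList xs : Ideal A) : Set A))
    exact hcon (hmax (b := ⟨⟨maximalIdeal A, (maximalIdeal.isMaximal A).isPrime⟩,
      Ideal.span_le.2 hxs⟩) (IsLocalRing.le_maximalIdeal hqp.ne_top))
  obtain ⟨ψ, hψ, hfin, hloc⟩ := exists_algHom_finite k xs.get (fun i => hxs _ (List.get_mem xs i)) hrad
  letI : Algebra (MvPowerSeries (Fin xs.length) k) A := ψ.toRingHom.toAlgebra
  haveI : IsScalarTower k (MvPowerSeries (Fin xs.length) k) A := IsScalarTower.of_algebraMap_eq fun c => (ψ.commutes c).symm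
  haveI : Module.Finite (MvPowerSeries (Fin xs.length) k) A := hfin
  refine ⟨inferInstance, inferInstance, hloc, inferInstance, (genAt_iff_unramifiedAt (k := k) p).1 (genAt_of_fibre p ?_)⟩
  rw [← htop]
  congr 1
  ext v
  constructor
  · rintro ⟨i, rfl⟩
    exact ⟨xs.get i, List.get_mem xs i, congrArg δ (hψ i).symm⟩
  · rintro ⟨a, ha, rfl⟩
    obtain ⟨i, rfl⟩ := List.mem_iff_get.1 ha
    exact ⟨i, congrArg δ (hψ i)⟩

end Groth.Agent.E4Basics
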