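import Mathlib
import Groth.Agent.DirColim.Descend

/-! Descent of finitely presented modules and algebras to a stage of a filtered colimit. -/

set_option autoImplicit false

universe u

open TensorProduct

namespace Groth.Agent.E4Basics

/-- Descent of a finitely presented module when finitely many elements lift to some stage. -/
theorem exists_module_descent {ι : Type*} {A : Type u} [CommRing A] (G : ι → Type u)
    [∀ i, CommRing (G i)] (g : ∀ i, G i →+* A)
    (hlift : ∀ s : Finset A, ∃ i, (s : Set A) ⊆ Set.range (g i))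
    (M : Type u) [AddCommGroup M] [Module A M] [Module.FinitePresentation A M] :
    ∃ (i : ι) (Mi : Type u) (_ : AddCommGroup Mi) (_ : Module (G i) Mi),
      Module.FinitePresentation (G i) Mi ∧
      letI : Algebra (G i) A := (g i).toAlgebra
      Nonempty (M ≃ₗ[A] A ⊗[G i] Mi) := by
  classical
  obtain ⟨n, m, f, h, hf, hex⟩ := Module.FinitePresentation.exists_fin' A M
  let H := LinearMap.toMatrix' h
  obtain ⟨i, hi⟩ := hlift (Finset.univ.image fun p : Fin n × Fin m => H p.1 p.2)
  choose H₀ hH₀ using fun a b => hi (Finset.mem_coe.2 (Finset.mem_image.2 ⟨(a, b), Finset.mem_univ _, rfl⟩))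
  let _ : Algebra (G i) A := (g i).toAlgebra
  let h₀ : (Fin m → G i) →ₗ[G i] (Fin n → G i) := Matrix.toLin' (Matrix.of H₀)
  refine ⟨i, (Fin n → G i) ⧸ LinearMap.range h₀, inferInstance, inferInstance,
    Module.finitePresentation_of_surjective _ (Submodule.mkQ_surjective _) (by
      rw [Submodule.ker_mkQ]; exact Module.Finite.iff_fg.1 (Module.Finite.range h₀)), ?_⟩
  let eN := piScalarRight (G i) A A (Fin n)
  let eM := piScalarRight (G i) A A (Fin m)
  have hcomm : eN.toLinearMap ∘ₗ h₀.baseChange A = h ∘ₗ eM.toLinearMap := by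
    refine TensorProduct.AlgebraTensorModule.ext fun a v => ?_
    have hmap : H = (Matrix.of H₀).map (algebraMap (G i) A) := by
      ext p q; exact (hH₀ p q).symm
    have hh : h = Matrix.toLin' H := (Matrix.toLin'_toMatrix' h).symm
    have e1 : eN (a ⊗ₜ[G i] h₀ v) = a • fun j => algebraMap (G i) A (h₀ v j) := by
      funext j
      simp [eN, piScalarRightHom_tmul, Algebra.smul_def, mul_comm]
    have e2 : eM (a ⊗ₜ[G i] v) = a • fun j => algebraMap (G i) A (v j) := by
      funext j
      simp [eM, piScalarRightHom_tmul, Algebra.smul_def, mul_comm]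
    show eN (a ⊗ₜ[G i] h₀ v) = h (eM (a ⊗ₜ[G i] v))
    rw [e1, e2, map_smul, hh, Matrix.toLin'_apply, hmap]
    refine congrArg (a • ·) (funext fun j => ?_)
    rw [RingHom.map_mulVec]
    rfl
  have hex' : Function.Exact (h ∘ₗ eM.toLinearMap) f := by
    intro x
    rw [hex x]
    exact ⟨fun ⟨y, hy⟩ => ⟨eM.symm y, by simpa using hy⟩, fun ⟨y, hy⟩ => ⟨eM y, hy⟩⟩
  have hexA : Function.Exact (h₀.baseChange A) ((LinearMap.range h₀).mkQ.baseChange A) :=
    lTensor_exact A (LinearMap.exact_map_mkQ_range h₀) (Submodule.mkQ_surjective _)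
  let e1 := hexA.linearEquivOfSurjective (LinearMap.lTensor_surjective A (Submodule.mkQ_surjective _))
  let e2 := hex'.linearEquivOfSurjective hf
  exact ⟨e2.symm.trans ((Submodule.Quotient.equiv (LinearMap.range (h₀.baseChange A)) _ eN (by
    rw [← hcomm]; exact (LinearMap.range_comp _ _).symm)).symm.trans e1)⟩

/-- Descent of a finitely presented algebra. -/
theorem exists_algebra_descent {ι : Type u} {A : Type u} [CommRing A] {G : ι → Type u}
    [∀ i, CommRing (G i)] [∀ i, Algebra ℤ (G i)] [Algebra ℤ A] {g : ∀ i, G i →ₐ[ℤ] A}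
    (hG : Groth.Agent.DirColim.IsColim g) (B : Type u) [CommRing B] [Algebra A B]
    [Algebra.FinitePresentation A B] :
    ∃ (i : ι) (Bi : Type u) (_ : CommRing Bi) (_ : Algebra (G i) Bi),
      Algebra.FinitePresentation (G i) Bi ∧
      letI : Algebra (G i) A := (g i).toRingHom.toAlgebra
      Nonempty (B ≃ₐ[A] A ⊗[G i] Bi) := by
  let P := Algebra.Presentation.ofFinitePresentation A B
  let A₀ : Subalgebra ℤ A := Algebra.adjoin ℤ P.coeffs
  haveI : P.HasCoeffs A₀ := ⟨fun x hx => ⟨⟨x, Algebra.subset_adjoin hx⟩, rfl⟩⟩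
  have hfg : A₀.FG := Subalgebra.fg_def.2 ⟨_, P.finite_coeffs, rfl⟩
  have : Algebra.FiniteType ℤ A₀ := (Subalgebra.fg_iff_finiteType A₀).mp hfg
  have : Algebra.FinitePresentation ℤ A₀ := Algebra.FinitePresentation.of_finiteType.mp this
  obtain ⟨i, ψ, hψ⟩ := hG.exists_lift A₀.val
  let : Algebra A₀ (G i) := ψ.toRingHom.toAlgebra
  let : Algebra (G i) A := (g i).toRingHom.toAlgebra
  have : IsScalarTower A₀ (G i) A := IsScalarTower.of_algebraMap_eq fun x =>
    (AlgHom.congr_fun hψ x).symm
  exact ⟨i, (G i : Type u) ⊗[A₀] P.ModelOfHasCoeffs A₀, inferInstance, inferInstance, inferInstance,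
    ⟨(P.tensorModelOfHasCoeffsEquiv A₀).symm.trans
      (Algebra.TensorProduct.cancelBaseChange A₀ (G i) A A (P.ModelOfHasCoeffs A₀)).symm⟩⟩

end Groth.Agent.E4Basics
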