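import Groth.Agent.DimFormula.Criteria
import Groth.Agent.DimFormula.QuasiSection
import Groth.Agent.DimFormula.Jacobson

/-! Global dimension of the source of a morphism locally of finite type. -/

set_option autoImplicit false
set_option linter.unusedSectionVars false
set_option linter.style.haveILetI false

universe u

open AlgebraicGeometry CategoryTheory

namespace Groth.Agent.E4Basics

open Groth.Agent.DimFormula

theorem topologicalKrullDim_eq_iSup_codim (X : Scheme.{u}) [IsLocallyNoetherian X] :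
    topologicalKrullDim X = ⨆ x : X, ((codim x : ℕ∞) : WithBot ℕ∞) := by
  haveI : QuasiSober ↥(Set.univ : Set X) :=
    (Homeomorph.Set.univ X).isClosedEmbedding.quasiSober
  rw [← (Homeomorph.Set.univ X).isHomeomorph.topologicalKrullDim_eq,
    topologicalKrullDim_subset (Set.univ : Set X), Order.krullDim_eq_of_orderIso OrderIso.Set.univ]
  rcases isEmpty_or_nonempty X with h | h
  · rw [Order.krullDim_eq_bot, iSup_of_empty]
  · rw [Order.krullDim_eq_iSup_coheight_of_nonempty, WithBot.coe_iSup (OrderTop.bddAbove _)]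
    exact iSup_congr fun x => by rw [coe_codim]

variable {X Y : Scheme.{u}} (f : X ⟶ Y) [LocallyOfFiniteType f] [IsLocallyNoetherian Y]

theorem exists_rd_eq_zero {y : Y} (h : y ∈ Set.range f) : ∃ x, f x = y ∧ FibDim.rd f x = 0 := by
  classical
  obtain ⟨x₀, hx₀⟩ := h
  have hex : ∃ n, ∃ x, f x = y ∧ FibDim.rd f x = n := ⟨_, x₀, hx₀, rfl⟩
  obtain ⟨x, hx, hn⟩ := Nat.find_spec hex
  refine ⟨x, hx, rd_eq_zero_of_closed f fun x' hx' hsp => ?_⟩
  by_contra hne
  have hlt := FibDim.rd_lt f hsp (Ne.symm hne) hx'.symm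
  exact Nat.find_min hex (hn ▸ hlt) ⟨x', hx'.trans hx, rfl⟩

theorem codim_le_add_of_fibre_le {n : ℕ} (h : ∀ y : Y, topologicalKrullDim (f.fiber y) ≤ n) (x : X) :
    codim x ≤ codim (f x) + n := by
  obtain ⟨z, -, hfz, -, -, he⟩ := exists_fibMax_top f x
  have h1 := (FibDim.topologicalKrullDim_fiber_le_iff f (f x) n).1 (h (f x)) z hfz
  have h2 := codim_le_add f x
  omega

theorem topologicalKrullDim_le_add {n : ℕ} (h : ∀ y : Y, topologicalKrullDim (f.fiber y) ≤ n) :
    topologicalKrullDim X ≤ topologicalKrullDim Y + n := by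
  haveI := LocallyOfFiniteType.isLocallyNoetherian f
  rw [topologicalKrullDim_eq_iSup_codim X, topologicalKrullDim_eq_iSup_codim Y]
  refine iSup_le fun x => ?_
  refine le_trans ?_ (add_le_add (le_iSup (fun y : Y => ((codim y : ℕ∞) : WithBot ℕ∞)) (f x)) le_rfl)
  exact_mod_cast codim_le_add_of_fibre_le f h x

variable [IrreducibleSpace X] [IrreducibleSpace Y] [IsDominant f]

theorem codim_formula (x : X) :
    codim x + FibDim.rd f x ≤ codim (f x) + FibDim.rd f (genericPoint X) ∧
      (CAlg.IsUniversallyCatenary (Y.presheaf.stalk (f x)) →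
        codim x + FibDim.rd f x = codim (f x) + FibDim.rd f (genericPoint X)) := by
  haveI := LocallyOfFiniteType.isLocallyNoetherian f
  have h := cd_formula f (η := genericPoint X) (x := x) ((genericPoint_spec X).specializes (Set.mem_univ x))
  rw [(generic_fibre_dim f).1, cd_eq_codim_of_irreducible, cd_eq_codim_of_irreducible] at h
  exact h

theorem iSup_image_le :
    topologicalKrullDim X ≤
      (⨆ y ∈ Set.range f, ((codim y : ℕ∞) : WithBot ℕ∞)) + (FibDim.rd f (genericPoint X) : ℕ) := by
  haveI := LocallyOfFiniteType.isLocallyNoetherian f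
  rw [topologicalKrullDim_eq_iSup_codim X]
  refine iSup_le fun x => ?_
  refine le_trans ?_ (add_le_add (le_iSup₂ (f := fun y _ => ((codim y : ℕ∞) : WithBot ℕ∞)) (f x) ⟨x, rfl⟩) le_rfl)
  have := (codim_formula f x).1
  exact_mod_cast (show codim x ≤ codim (f x) + FibDim.rd f (genericPoint X) by omega)

theorem codim_add_le_of_mem_range (hY : ∀ y : Y, CAlg.IsUniversallyCatenary (Y.presheaf.stalk y)) {y : Y}
    (hy : y ∈ Set.range f) :
    ((codim y : ℕ∞) : WithBot ℕ∞) + (FibDim.rd f (genericPoint X) : ℕ) ≤ topologicalKrullDim X := by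
  haveI := LocallyOfFiniteType.isLocallyNoetherian f
  obtain ⟨x, rfl, hx⟩ := exists_rd_eq_zero f hy
  rw [topologicalKrullDim_eq_iSup_codim X]
  refine le_trans ?_ (le_iSup (fun x : X => ((codim x : ℕ∞) : WithBot ℕ∞)) x)
  have := (codim_formula f x).2 (hY _)
  exact_mod_cast (show codim (f x) + FibDim.rd f (genericPoint X) ≤ codim x by omega)

theorem eq_iSup_image_add (hY : ∀ y : Y, CAlg.IsUniversallyCatenary (Y.presheaf.stalk y)) :
    topologicalKrullDim X =
      (⨆ y ∈ Set.range f, ((codim y : ℕ∞) : WithBot ℕ∞)) + (FibDim.rd f (genericPoint X) : ℕ) := by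
  refine le_antisymm (iSup_image_le f) ?_
  obtain ⟨η⟩ : Nonempty X := IrreducibleSpace.toNonempty
  haveI : Nonempty {y // y ∈ Set.range f} := ⟨⟨f η, η, rfl⟩⟩
  rw [iSup_subtype']
  rw [← WithBot.coe_iSup (OrderTop.bddAbove _)]
  rw [show ((FibDim.rd f (genericPoint X) : ℕ) : WithBot ℕ∞) =
    (((FibDim.rd f (genericPoint X) : ℕ) : ℕ∞) : WithBot ℕ∞) from rfl, ← WithBot.coe_add, ENat.iSup_add,
    WithBot.coe_iSup (OrderTop.bddAbove _)]
  refine iSup_le fun y => ?_
  have := codim_add_le_of_mem_range f hY y.2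
  rw [WithBot.coe_add]
  exact this

end Groth.Agent.E4Basics

namespace Groth.Agent.E4Basics

open Groth.Agent.DimFormula

theorem add_natCast_right_cancel {a b : WithBot ℕ∞} {e : ℕ} (h : a + (e : WithBot ℕ∞) = b + (e : WithBot ℕ∞)) :
    a = b := by
  rw [show ((e : ℕ) : WithBot ℕ∞) = (((e : ℕ) : ℕ∞) : WithBot ℕ∞) from rfl] at h
  induction a with
  | bot =>
    induction b with
    | bot => rfl
    | coe b =>
      rw [WithBot.bot_add, ← WithBot.coe_add] at h
      exact absurd h.symm WithBot.coe_ne_bot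
  | coe a =>
    induction b with
    | bot =>
      rw [WithBot.bot_add, ← WithBot.coe_add] at h
      exact absurd h WithBot.coe_ne_bot
    | coe b =>
      rw [← WithBot.coe_add, ← WithBot.coe_add, WithBot.coe_inj] at h
      rw [ENat.add_left_injective_of_ne_top (ENat.natCast_ne_top e) h]

end Groth.Agent.E4Basics
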