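import Mathlib

/-! `A[T_1, …, T_r] / (F_1(T_1), …, F_r(T_r))` is free. -/

set_option autoImplicit false

universe u

open Polynomial

namespace Groth.Agent.E4Basics

variable {A : Type u} [CommRing A]

noncomputable abbrev sepIdeal {r : ℕ} (F : Fin r → A[X]) : Ideal (MvPolynomial (Fin r) A) :=
  Ideal.span (Set.range fun i => Polynomial.aeval (MvPolynomial.X i : MvPolynomial (Fin r) A) (F i))

noncomputable abbrev SepQuot {r : ℕ} (F : Fin r → A[X]) : Type u := MvPolynomial (Fin r) A ⧸ sepIdeal F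

variable {r : ℕ} (F : Fin (r + 1) → A[X])

/-- Splitting off the first variable. -/
noncomputable def succEquiv :
    SepQuot F ≃ₐ[A] AdjoinRoot ((F 0).map (algebraMap A (SepQuot (Fin.tail F)))) := by
  let Q := SepQuot (Fin.tail F)
  let P : Q[X] := (F 0).map (algebraMap A Q)
  let φ : MvPolynomial (Fin (r + 1)) A →ₐ[A] AdjoinRoot P :=
    MvPolynomial.aeval (Fin.cases (AdjoinRoot.root P)
      fun i => algebraMap Q (AdjoinRoot P) (Ideal.Quotient.mkₐ A (sepIdeal (Fin.tail F)) (MvPolynomial.X i)))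
  have hφ : sepIdeal F ≤ RingHom.ker φ := by
    rw [Ideal.span_le]
    rintro _ ⟨i, rfl⟩
    rw [SetLike.mem_coe, RingHom.mem_ker, ← Polynomial.aeval_algHom_apply, MvPolynomial.aeval_X]
    refine Fin.cases ?_ (fun j => ?_) i
    · rw [Fin.cases_zero, ← Polynomial.aeval_map_algebraMap Q, AdjoinRoot.aeval_eq]
      exact AdjoinRoot.mk_self
    · rw [Fin.cases_succ, Polynomial.aeval_algebraMap_apply, Polynomial.aeval_algHom_apply]
      have h : Ideal.Quotient.mkₐ A (sepIdeal (Fin.tail F)) (aeval (MvPolynomial.X j) (F j.succ)) = 0 :=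
        Ideal.Quotient.eq_zero_iff_mem.2 (Ideal.subset_span ⟨j, rfl⟩)
      rw [h, map_zero]
  let ι : MvPolynomial (Fin r) A →ₐ[A] SepQuot F :=
    MvPolynomial.aeval fun i => Ideal.Quotient.mkₐ A (sepIdeal F) (MvPolynomial.X i.succ)
  have hι : sepIdeal (Fin.tail F) ≤ RingHom.ker ι := by
    rw [Ideal.span_le]
    rintro _ ⟨i, rfl⟩
    rw [SetLike.mem_coe, RingHom.mem_ker, ← Polynomial.aeval_algHom_apply, MvPolynomial.aeval_X,
      Polynomial.aeval_algHom_apply]
    exact Ideal.Quotient.eq_zero_iff_mem.2 (Ideal.subset_span ⟨i.succ, rfl⟩)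
  let ι' : Q →ₐ[A] SepQuot F := Ideal.Quotient.liftₐ (sepIdeal (Fin.tail F)) ι hι
  let ψ : AdjoinRoot P →ₐ[A] SepQuot F :=
    AdjoinRoot.liftAlgHom P ι' (Ideal.Quotient.mkₐ A (sepIdeal F) (MvPolynomial.X 0)) (by
      show Polynomial.eval₂ ι'.toRingHom _ ((F 0).map (algebraMap A Q)) = 0
      rw [Polynomial.eval₂_map, show ι'.toRingHom.comp (algebraMap A Q) = algebraMap A (SepQuot F) from
        RingHom.ext ι'.commutes, ← Polynomial.aeval_def, Polynomial.aeval_algHom_apply]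
      exact Ideal.Quotient.eq_zero_iff_mem.2 (Ideal.subset_span ⟨0, rfl⟩))
  let Φ : SepQuot F →ₐ[A] AdjoinRoot P := Ideal.Quotient.liftₐ (sepIdeal F) φ hφ
  have hΦ : ∀ x, Φ (Ideal.Quotient.mkₐ A (sepIdeal F) x) = φ x := fun x => rfl
  have hι' : ∀ x, ι' (Ideal.Quotient.mkₐ A (sepIdeal (Fin.tail F)) x) = ι x := fun x => rfl
  have hψ0 : ψ (AdjoinRoot.root P) = Ideal.Quotient.mkₐ A (sepIdeal F) (MvPolynomial.X 0) :=
    AdjoinRoot.liftAlgHom_root _ _ _ _
  have hψC : ∀ x : Q, ψ (algebraMap Q (AdjoinRoot P) x) = ι' x := fun x =>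
    AdjoinRoot.liftAlgHom_of _ _ _ _ x
  have hφ0 : φ (MvPolynomial.X 0) = AdjoinRoot.root P := by simp [φ]
  have hφs : ∀ j : Fin r, φ (MvPolynomial.X j.succ) =
      algebraMap Q (AdjoinRoot P) (Ideal.Quotient.mkₐ A (sepIdeal (Fin.tail F)) (MvPolynomial.X j)) := fun j => by
    simp [φ]
  refine AlgEquiv.ofAlgHom Φ ψ ?_ ?_
  · refine AdjoinRoot.algHom_ext' ?_ ?_
    · refine Ideal.Quotient.algHom_ext _ (MvPolynomial.algHom_ext fun i => ?_)
      show Φ (ψ (algebraMap Q (AdjoinRoot P) (Ideal.Quotient.mkₐ A _ (MvPolynomial.X i)))) =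
        algebraMap Q (AdjoinRoot P) (Ideal.Quotient.mkₐ A _ (MvPolynomial.X i))
      rw [hψC, hι', MvPolynomial.aeval_X, hΦ, hφs]
    · show Φ (ψ (AdjoinRoot.root P)) = AdjoinRoot.root P
      rw [hψ0, hΦ, hφ0]
  · refine Ideal.Quotient.algHom_ext _ (MvPolynomial.algHom_ext fun i => ?_)
    show ψ (Φ (Ideal.Quotient.mkₐ A _ (MvPolynomial.X i))) = Ideal.Quotient.mkₐ A _ (MvPolynomial.X i)
    refine Fin.cases ?_ (fun j => ?_) i
    · rw [hΦ, hφ0, hψ0]
    · rw [hΦ, hφs, hψC, hι', MvPolynomial.aeval_X]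

theorem exists_basis [Nontrivial A] : ∀ {r : ℕ} (F : Fin r → A[X]), (∀ i, (F i).Monic) →
    Nonempty (Module.Basis (Fin (∏ i, (F i).natDegree)) A (SepQuot F))
  | 0, F, _ => by
    have : sepIdeal F = ⊥ := by simp [sepIdeal]
    let e : SepQuot F ≃ₐ[A] A :=
      (Ideal.quotientEquivAlgOfEq A this).trans
        ((AlgEquiv.quotientBot A _).trans (MvPolynomial.isEmptyAlgEquiv A (Fin 0)))
    exact ⟨((Module.Basis.singleton (Fin 1) A).map e.toLinearEquiv.symm).reindex (finCongr (by simp))⟩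
  | r + 1, F, hF => by
    obtain ⟨b⟩ := exists_basis (Fin.tail F) fun i => hF i.succ
    let Q := SepQuot (Fin.tail F)
    rw [Fin.prod_univ_succ]
    rcases subsingleton_or_nontrivial Q with hQ | hQ
    · have h0 : (∏ i, (Fin.tail F i).natDegree) = 0 := by
        by_contra h
        exact b.ne_zero (i := ⟨0, Nat.pos_of_ne_zero h⟩) (Subsingleton.elim (α := Q) _ _)
      have h0' : (∏ i, (F (Fin.succ i)).natDegree) = 0 := h0
      have : Subsingleton (AdjoinRoot ((F 0).map (algebraMap A Q))) :=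
        Module.subsingleton Q _
      have : Subsingleton (SepQuot F) := (succEquiv F).toEquiv.subsingleton
      have : IsEmpty (Fin ((F 0).natDegree * ∏ i, (F (Fin.succ i)).natDegree)) := by
        rw [h0', mul_zero]
        infer_instance
      exact ⟨Module.Basis.empty _⟩
    · have hm : ((F 0).map (algebraMap A Q)).Monic := (hF 0).map _
      let pb := (AdjoinRoot.powerBasis' hm).basis
      have hd : (AdjoinRoot.powerBasis' hm).dim = (F 0).natDegree := (hF 0).natDegree_map _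
      let B := (b.smulTower pb).map (succEquiv F).toLinearEquiv.symm
      refine ⟨B.reindex (finProdFinEquiv.trans (finCongr ?_))⟩
      rw [hd, mul_comm]
      rfl

end Groth.Agent.E4Basics
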