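import Mathlib
import Groth.Agent.CplFib6.DerivTower

/-! Coefficientwise derivations of power series. -/

set_option autoImplicit false

universe u

open TensorProduct

attribute [local instance 10000] Ring.toIntAlgebra

namespace Groth.Agent.E4Basics

/-- It is enough to extend derivations of `K` into itself. -/
theorem injective_mapBaseChange_of_self_extends {R : Type*} {K L : Type u} [CommRing R] [Field K] [Field L]
    [Algebra R K] [Algebra K L] [Algebra R L] [IsScalarTower R K L]
    (h : ∀ D : Derivation R K K, ∃ D' : Derivation R L L, ∀ a : K, D' (algebraMap K L a) = algebraMap K L (D a)) :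
    Function.Injective (KaehlerDifferential.mapBaseChange R K L) := by
  classical
  refine (injective_iff_map_eq_zero _).mpr fun z hz => ?_
  let b := Module.Free.chooseBasis K (Ω[K⁄R])
  apply (Algebra.TensorProduct.basis L b).repr.injective
  rw [map_zero]
  ext i
  obtain ⟨D', hD'⟩ := h ((b.coord i).compDer (KaehlerDifferential.D R K))
  have key : D'.liftKaehlerDifferential.comp (KaehlerDifferential.mapBaseChange R K L) =
      (Algebra.TensorProduct.basis L b).coord i := by
    apply TensorProduct.AlgebraTensorModule.ext
    intro l ω
    have hω : ω ∈ Submodule.span K (Set.range (KaehlerDifferential.D R K)) := by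
      rw [KaehlerDifferential.span_range_derivation]; trivial
    show D'.liftKaehlerDifferential (KaehlerDifferential.mapBaseChange R K L (l ⊗ₜ ω)) =
      (Algebra.TensorProduct.basis L b).repr (l ⊗ₜ ω) i
    rw [KaehlerDifferential.mapBaseChange_tmul, map_smul, Algebra.TensorProduct.basis_repr_tmul,
      smul_eq_mul, Finsupp.smul_apply, Finsupp.mapRange_apply, smul_eq_mul]
    congr 1
    induction hω using Submodule.span_induction with
    | mem y hy =>
      obtain ⟨c, rfl⟩ := hy
      rw [KaehlerDifferential.map_D, Derivation.liftKaehlerDifferential_comp_D]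
      exact hD' c
    | zero => simp
    | add x y _ _ hx hy => simp [map_add, hx, hy]
    | smul c x _ hx =>
      rw [map_smul (KaehlerDifferential.map R R K L) c x, map_smul b.repr c x,
        algebra_compatible_smul L c, map_smul, hx, smul_eq_mul, Finsupp.smul_apply, smul_eq_mul, map_mul]
  simpa [hz] using (LinearMap.congr_fun key z).symm

open MvPowerSeries in
/-- The coefficientwise extension of a derivation. -/
noncomputable def coeffwise {σ : Type*} {k : Type u} [CommRing k] (D : Derivation ℤ k k) :
    Derivation ℤ (MvPowerSeries σ k) (MvPowerSeries σ k) :=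
  Derivation.mk'
    { toFun := fun f => fun n => D (coeff n f)
      map_add' := fun f g => by
        funext n
        show D (coeff n (f + g)) = D (coeff n f) + D (coeff n g)
        rw [map_add, map_add]
      map_smul' := fun c f => by
        funext n
        show D (coeff n (c • f)) = c • D (coeff n f)
        rw [map_zsmul, map_zsmul] }
    (fun f g => by
      classical
      refine MvPowerSeries.ext fun n => ?_
      rw [smul_eq_mul, smul_eq_mul, map_add, coeff_mul, coeff_mul]
      show D (coeff n (f * g)) = (∑ p ∈ Finset.HasAntidiagonal.antidiagonal n, coeff p.1 f * D (coeff p.2 g)) +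
        ∑ p ∈ Finset.HasAntidiagonal.antidiagonal n, coeff p.1 g * D (coeff p.2 f)
      rw [coeff_mul, map_sum, show (∑ p ∈ Finset.HasAntidiagonal.antidiagonal n, coeff p.1 g * D (coeff p.2 f)) =
          ∑ p ∈ Finset.HasAntidiagonal.antidiagonal n, coeff p.2 g * D (coeff p.1 f) from
        Finset.sum_equiv (Equiv.prodComm _ _) (by simp [add_comm]) (by simp), ← Finset.sum_add_distrib]
      refine Finset.sum_congr rfl fun p _ => ?_
      simp [Derivation.leibniz])

theorem coeffwise_C {σ : Type*} {k : Type u} [CommRing k] (D : Derivation ℤ k k) (a : k) :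
    coeffwise D (MvPowerSeries.C (σ := σ) a) = MvPowerSeries.C (D a) := by
  classical
  refine MvPowerSeries.ext fun n => ?_
  show D (MvPowerSeries.coeff n (MvPowerSeries.C a)) = _
  rw [MvPowerSeries.coeff_C, MvPowerSeries.coeff_C]
  split <;> simp

theorem exists_extension_fractionRing {σ : Type} {k : Type u} [Field k] (D : Derivation ℤ k k) :
    ∃ D' : Derivation ℤ (FractionRing (MvPowerSeries σ k)) (FractionRing (MvPowerSeries σ k)),
      ∀ a : k, D' (algebraMap k _ a) = algebraMap k _ (D a) := by
  obtain ⟨D', hD'⟩ := CplFib6.exists_derivation_localization (S := FractionRing (MvPowerSeries σ k))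
    (nonZeroDivisors (MvPowerSeries σ k)) (coeffwise D)
  refine ⟨D', fun a => ?_⟩
  have h1 : ∀ b : k, algebraMap k (FractionRing (MvPowerSeries σ k)) b =
      algebraMap (MvPowerSeries σ k) (FractionRing (MvPowerSeries σ k)) (MvPowerSeries.C b) :=
    fun b => IsScalarTower.algebraMap_apply k (MvPowerSeries σ k) (FractionRing (MvPowerSeries σ k)) b
  rw [h1, h1, hD', coeffwise_C]

end Groth.Agent.E4Basics
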