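import Groth.Agent.E4Basics.PdDim
import Mathlib.LinearAlgebra.TensorProduct.Quotient

/-! Projective dimension modulo a regular element. -/

set_option autoImplicit false
set_option linter.unusedSectionVars false
set_option linter.style.haveILetI false

universe u

open TensorProduct Groth.Agent.RegLoc6

namespace Groth.Agent.E4Basics

variable {A : Type u} [CommRing A]

theorem projective_quot (I : Ideal A) (M : Type u) [AddCommGroup M] [Module A M] [Module.Projective A M] :
    Module.Projective (A ⧸ I) (M ⧸ I • (⊤ : Submodule A M)) := by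
  let e : ((A ⧸ I) ⊗[A] M) ≃ₗ[A] M ⧸ I • (⊤ : Submodule A M) := TensorProduct.quotTensorEquivQuotSMul M I
  exact Module.Projective.of_equiv (LinearEquiv.extendScalarsOfSurjective
    (show Function.Surjective (algebraMap A (A ⧸ I)) from Ideal.Quotient.mk_surjective) e)

theorem pdLE_quot [IsNoetherianRing A] (a : A) (hA : IsSMulRegular A a) : ∀ (n : ℕ) (E : Type u) [AddCommGroup E]
    [Module A E] [Module.Finite A E], IsSMulRegular E a → PdLE A n E →
      PdLE (A ⧸ Ideal.span {a}) n (E ⧸ Ideal.span {a} • (⊤ : Submodule A E))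
  | 0, E, _, _, _, _, h => by
    haveI := pdLE_zero_iff.1 h
    exact pdLE_zero_iff.2 (projective_quot _ _)
  | n + 1, E, _, _, _, hE, h => by
    obtain ⟨k, g, hg⟩ := Module.Finite.exists_fin' A E
    let F := Fin k → A
    let K := LinearMap.ker g
    let I := Ideal.span {a}
    haveI : Module.Finite A K := Module.Finite.of_injective K.subtype K.injective_subtype
    have hF : IsSMulRegular F a := fun x y hxy => funext fun i => hA (congrFun hxy i)
    have hK : IsSMulRegular K a := fun x y hxy => Subtype.ext (hF (congrArg Subtype.val hxy))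
    have hKn := pdLE_quot a hA n K hK (pdLE_ker g hg h (pdLE_of_projective n))
    haveI := projective_quot I F
    have hs : Function.Surjective (algebraMap A (A ⧸ I)) := Ideal.Quotient.mk_surjective
    let ι : (K ⧸ I • (⊤ : Submodule A K)) →ₗ[A ⧸ I] F ⧸ I • (⊤ : Submodule A F) :=
      LinearMap.extendScalarsOfSurjective hs
        (Submodule.mapQ _ _ K.subtype (Submodule.smul_top_le_comap_smul_top _ K.subtype))
    let π : (F ⧸ I • (⊤ : Submodule A F)) →ₗ[A ⧸ I] E ⧸ I • (⊤ : Submodule A E) :=
      LinearMap.extendScalarsOfSurjective hs (Submodule.mapQ _ _ g (Submodule.smul_top_le_comap_smul_top _ g))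
    have hπ : Function.Surjective π := fun y => by
      obtain ⟨y, rfl⟩ := Submodule.Quotient.mk_surjective _ y
      obtain ⟨x, rfl⟩ := hg y
      exact ⟨Submodule.Quotient.mk x, rfl⟩
    have hinj : Function.Injective ι := by
      rw [injective_iff_map_eq_zero]
      intro y hy
      obtain ⟨y, rfl⟩ := Submodule.Quotient.mk_surjective _ y
      have hy' : (Submodule.Quotient.mk (y : F) : F ⧸ I • (⊤ : Submodule A F)) = 0 := hy
      rw [Submodule.Quotient.mk_eq_zero, Submodule.ideal_span_singleton_smul] at hy'
      obtain ⟨x, -, hx⟩ := hy'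
      have hx' : a • x = (y : F) := hx
      have hxK : x ∈ K := LinearMap.mem_ker.2 (hE (by
        show a • g x = a • (0 : E)
        rw [smul_zero, ← map_smul, hx']
        exact LinearMap.mem_ker.1 y.2))
      rw [Submodule.Quotient.mk_eq_zero, show y = a • (⟨x, hxK⟩ : K) from Subtype.ext hx'.symm]
      exact Submodule.smul_mem_smul (Ideal.mem_span_singleton_self a) Submodule.mem_top
    have hex : LinearMap.range ι = LinearMap.ker π := by
      refine le_antisymm ?_ fun z hz => ?_
      · rintro _ ⟨y, rfl⟩
        obtain ⟨y, rfl⟩ := Submodule.Quotient.mk_surjective _ y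
        show (Submodule.Quotient.mk (g (y : F)) : E ⧸ I • (⊤ : Submodule A E)) = 0
        rw [LinearMap.mem_ker.1 y.2]
        rfl
      · obtain ⟨z, rfl⟩ := Submodule.Quotient.mk_surjective _ z
        have hz' : (Submodule.Quotient.mk (g z) : E ⧸ I • (⊤ : Submodule A E)) = 0 := hz
        rw [Submodule.Quotient.mk_eq_zero, Submodule.ideal_span_singleton_smul] at hz'
        obtain ⟨w, -, hw⟩ := hz'
        obtain ⟨v, rfl⟩ := hg w
        have hzK : z - a • v ∈ K := LinearMap.mem_ker.2 (by
          rw [map_sub, map_smul, sub_eq_zero]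
          exact hw.symm)
        refine ⟨Submodule.Quotient.mk ⟨z - a • v, hzK⟩, ?_⟩
        show (Submodule.Quotient.mk (z - a • v) : F ⧸ I • (⊤ : Submodule A F)) = Submodule.Quotient.mk z
        rw [Submodule.Quotient.eq, sub_sub_cancel_left]
        exact neg_mem (Submodule.smul_mem_smul (Ideal.mem_span_singleton_self a) Submodule.mem_top)
    exact pdLE_succ_of_ker π hπ
      (pdLE_of_equiv ((LinearEquiv.ofInjective ι hinj).trans (LinearEquiv.ofEq _ _ hex)) hKn)
      (pdLE_of_projective _)

end Groth.Agent.E4Basics
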