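import Mathlib

/-! The prime field is perfect. -/

set_option autoImplicit false

universe u

namespace Groth.Agent.E4Basics

theorem perfectField_bot (k : Type u) [Field k] : PerfectField (⊥ : Subfield k) := by
  obtain ⟨p, _⟩ := CharP.exists k
  rcases CharP.char_is_prime_or_zero k p with hp | rfl
  · have : Fact p.Prime := ⟨hp⟩
    let _ : Algebra (ZMod p) k := ZMod.algebra k p
    have : Finite (⊥ : Subfield k) := by
      rw [Subfield.bot_eq_of_zMod_algebra p]
      exact Set.Finite.to_subtype (Set.finite_range _)
    infer_instance
  · have : CharZero k := CharP.charP_to_charZero k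
    have : CharZero (⊥ : Subfield k) :=
      ⟨fun a b h => Nat.cast_injective (R := k) (by simpa using congrArg (Subtype.val) h)⟩
    infer_instance

end Groth.Agent.E4Basics
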