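import Mathlib.AlgebraicGeometry.Morphisms.QuasiFinite
import Mathlib.Topology.Sober

/-! Specializations in the fibres of a quasi-finite morphism. -/

set_option autoImplicit false

universe u

open AlgebraicGeometry

namespace Groth.Agent.E4Basics

theorem eq_of_specializes_fibre {X Y : Scheme.{u}} (f : X ⟶ Y) [LocallyQuasiFinite f] {a b : X}
    (h : a ⤳ b) (e : f a = f b) : a = b := by
  have hd : _root_.IsDiscrete (f ⁻¹' {f b}) := f.isDiscrete_preimage_singleton _
  have := hd.to_subtype
  have h' : (⟨a, e⟩ : (f ⁻¹' {f b} : Set X)) ⤳ ⟨b, rfl⟩ := (subtype_specializes_iff _ _).2 h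
  exact congrArg Subtype.val h'.eq

end Groth.Agent.E4Basics
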