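import Groth.Agent.RegFS6.Field
import Groth.Agent.S19474
import Mathlib.RingTheory.RegularLocalRing.Polynomial

/-! The completion of a regular ring is regular. -/

set_option autoImplicit false

universe u

namespace Groth.Agent.E4Basics

theorem isRegularRing_adicCompletion (A : Type u) [CommRing A] [IsRegularRing A] (J : Ideal A) :
    IsRegularRing (AdicCompletion J A) := by
  let B := AdicCompletion J A
  have hfg : J.FG := IsNoetherian.noetherian J
  haveI := AdicCompletion.isAdicComplete_self J hfg
  haveI : IsNoetherianRing (B ⧸ J.map (algebraMap A B)) := by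
    have e : (B ⧸ J.map (algebraMap A B)) ≃+* (A ⧸ J) :=
      (Ideal.quotEquivOfEq (AdicCompletion.ker_evalOneₐ_eq_map J hfg).symm).trans
        (RingHom.quotientKerEquivOfSurjective (f := (AdicCompletion.evalOneₐ J).toRingHom)
          (AdicCompletion.evalOneₐ_surjective J))
    exact isNoetherianRing_of_ringEquiv _ e.symm
  haveI : IsNoetherianRing B :=
    Groth.Agent.LocalCrit.isNoetherianRing_of_isAdicComplete (J.map (algebraMap A B)) (hfg.map _)
  haveI : Module.Flat A B := AdicCompletion.flat_of_isNoetherian J
  have hjac : J.map (algebraMap A B) ≤ (⊥ : Ideal B).jacobson := IsAdicComplete.le_jacobson_bot _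
  have hsurj : ∀ b : B, ∃ a : A, b - algebraMap A B a ∈ J.map (algebraMap A B) := fun b => by
    obtain ⟨a, ha⟩ := Ideal.Quotient.mk_surjective ((AdicCompletion.evalOneₐ J) b)
    refine ⟨a, ?_⟩
    rw [← AdicCompletion.ker_evalOneₐ_eq_map J hfg, RingHom.mem_ker]
    show AdicCompletion.evalOneₐ J (b - algebraMap A B a) = 0
    rw [map_sub, ← ha, ← AdicCompletion.evalOneₐ_comp_algebraMap_eq_mk]
    exact sub_self _
  refine Groth.Agent.RegFS6.isRegularRing_of_maximal B fun n hn => ?_
  have hJn : J.map (algebraMap A B) ≤ n := hjac.trans (sInf_le ⟨bot_le, hn⟩)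
  let m := n.comap (algebraMap A B)
  have hm : m.IsMaximal := by
    have hs : Function.Surjective ((Ideal.Quotient.mk n).comp (algebraMap A B)) := fun z => by
      obtain ⟨b, rfl⟩ := Ideal.Quotient.mk_surjective z
      obtain ⟨a, ha⟩ := hsurj b
      exact ⟨a, (Ideal.Quotient.eq.2 (hJn ha)).symm⟩
    letI := Ideal.Quotient.field n
    have := RingHom.ker_isMaximal_of_surjective _ hs
    rwa [← RingHom.comap_ker, Ideal.mk_ker] at this
  have hext : m.map (algebraMap A B) = n :=
    (AdicCompletion.isMaximal_map_of_le J m (fun a ha => hJn (Ideal.mem_map_of_mem _ ha)) hfg).eq_of_le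
      hn.ne_top Ideal.map_comap_le
  haveI : n.LiesOver m := ⟨rfl⟩
  have hh : n.height = m.height := by
    haveI : Nontrivial (B ⧸ m.map (algebraMap A B)) := Ideal.Quotient.nontrivial_iff.2 (hext ▸ hn.ne_top)
    have h := Ideal.height_eq_height_add_of_liesOver_of_hasGoingDown m n
    have hbot : n.map (Ideal.Quotient.mk (m.map (algebraMap A B))) = ⊥ := by
      rw [hext, Ideal.map_quotient_self]
    rwa [hbot, Ideal.height_bot, add_zero] at h
  let Am := Localization.AtPrime m
  let Bn := Localization.AtPrime n
  haveI : IsNoetherianRing Bn := IsLocalization.isNoetherianRing n.primeCompl _ inferInstance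
  let φ : Am →+* Bn := Localization.localRingHom m n (algebraMap A B) rfl
  have hmax : IsLocalRing.maximalIdeal Bn = (IsLocalRing.maximalIdeal Am).map φ := by
    rw [← Localization.AtPrime.map_eq_maximalIdeal, ← Localization.AtPrime.map_eq_maximalIdeal, Ideal.map_map]
    have : φ.comp (algebraMap A Am) = (algebraMap B Bn).comp (algebraMap A B) :=
      RingHom.ext fun a => Localization.localRingHom_to_map m n (algebraMap A B) rfl a
    rw [this, ← Ideal.map_map, hext]
  refine IsRegularLocalRing.of_spanFinrank_maximalIdeal_le (R := Bn) ?_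
  have h1 : (IsLocalRing.maximalIdeal Bn).spanFinrank ≤ (IsLocalRing.maximalIdeal Am).spanFinrank := by
    rw [hmax]
    exact Ideal.spanFinrank_map_le_of_fg φ (IsNoetherian.noetherian _)
  rw [IsLocalization.AtPrime.ringKrullDim_eq_height n Bn, hh, ← IsLocalization.AtPrime.ringKrullDim_eq_height m Am,
    ← (isRegularLocalRing_iff Am).1 inferInstance]
  exact_mod_cast h1

theorem isRegularRing_mvPowerSeries (A : Type u) [CommRing A] [IsRegularRing A] (n : ℕ) :
    IsRegularRing (MvPowerSeries (Fin n) A) := by
  haveI := isRegularRing_adicCompletion (MvPolynomial (Fin n) A) (MvPolynomial.idealOfVars (Fin n) A)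
  exact IsRegularRing.of_ringEquiv (MvPowerSeries.toAdicCompletionAlgEquiv (Fin n) A).toRingEquiv.symm

end Groth.Agent.E4Basics
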